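import Mathlib
import Cfsg.Agent.H989.OutOrth.Forms

/-!
# Hyperbolic torus elements and Siegel elements of the orthogonal groups

`(x, y)` a hyperbolic pair of a quadratic space `(V, Q)` in the class `Good`.

* `hel h t` : the element of `E Q` with `x ↦ t² x`, `y ↦ t⁻² y` which is the identity on the complement of `⟨x, y⟩`;
* `exists_adj` : a semisimilitude can be multiplied by an element of `E Q` so that it fixes `x` and the line of `y`;
* `Fix` : such semisimilitudes; closed under powers; `conjLin_hel`.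
-/

set_option autoImplicit false

namespace Cfsg.Agent.H989.TorusOrth

open QuadraticMap Cfsg.Agent.LieClassical.OrthCore Cfsg.Agent.LieClassical.OrthTrans
  Cfsg.Agent.LieClassical.OrthSimple Cfsg.Agent.ClassicalGeometry.OrthSemi
  Cfsg.Agent.ClassicalGeometry.OrthSemiCount Cfsg.Agent.ClassicalGeometry.OrthAut1
  Cfsg.Agent.H989.OutOrth.Basic

variable {F V : Type*} [Field F] [AddCommGroup V] [Module F V] {Q : QuadraticForm F V} {x y : V}

/-! ### The torus element -/

theorem Q_add_pair (h : Hyp Q x y) (a b : F) : Q (a • x + b • y) = a * b := by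
  rw [Q_add, QuadraticMap.map_smul, QuadraticMap.map_smul, h.left, h.right, polar_smul_left,
    polar_smul_right, h.pair, smul_zero, smul_zero, smul_eq_mul, smul_eq_mul]
  ring

theorem Q_pair_one (h : Hyp Q x y) (t : Fˣ) : Q ((t : F) • x + ((t⁻¹ : Fˣ) : F) • y) = 1 := by
  rw [Q_add_pair h, Units.mul_inv]

theorem Q_pair_ne (h : Hyp Q x y) (t : Fˣ) : Q ((t : F) • x + ((t⁻¹ : Fˣ) : F) • y) ≠ 0 := by
  rw [Q_pair_one h]; exact one_ne_zero

/-- The torus element. -/
def hel (h : Hyp Q x y) (t : Fˣ) : V ≃ₗ[F] V :=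
  refl Q ((t : F) • x + ((t⁻¹ : Fˣ) : F) • y) (Q_pair_ne h t) *
    refl Q (((1 : Fˣ) : F) • x + (((1 : Fˣ)⁻¹ : Fˣ) : F) • y) (Q_pair_ne h 1)

theorem hel_apply (h : Hyp Q x y) (t : Fˣ) (v : V) :
    hel h t v = v + (((t : F) ^ 2 - 1) * polar Q y v) • x +
      ((((t⁻¹ : Fˣ) : F) ^ 2 - 1) * polar Q x v) • y := by
  have h0 : (t : F) ≠ 0 := t.ne_zero
  show refl Q _ (Q_pair_ne h t) (refl Q _ (Q_pair_ne h 1) v) = _
  rw [refl_apply, refl_apply, Q_pair_one h, Q_pair_one h]
  simp only [polar_sub_right, polar_smul_right, polar_add_left, polar_add_right, polar_smul_left,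
    h.polar_left, h.polar_right, h.pair, h.pair', smul_eq_mul, inv_one, Units.val_one, one_smul,
    one_mul, mul_one, mul_zero, zero_add, add_zero, Units.val_inv_eq_inv_val]
  match_scalars <;> field_simp <;> ring

theorem hel_mem_E (hG : Good Q) (h : Hyp Q x y) (t : Fˣ) : hel h t ∈ E Q :=
  hG.refl_mul_refl_mem (Q_pair_ne h 1) (Q_pair_ne h t) (by rw [Q_pair_one h, Q_pair_one h])

theorem hel_mem_O (h : Hyp Q x y) (t : Fˣ) : hel h t ∈ O Q :=
  (O Q).mul_mem (refl_mem_O _) (refl_mem_O _)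

theorem hel_left (h : Hyp Q x y) (t : Fˣ) : hel h t x = ((t : F) ^ 2) • x := by
  rw [hel_apply, h.polar_left, h.pair', mul_zero, zero_smul, add_zero, mul_one]
  module

theorem hel_right (h : Hyp Q x y) (t : Fˣ) : hel h t y = (((t⁻¹ : Fˣ) : F) ^ 2) • y := by
  rw [hel_apply, h.polar_right, h.pair, mul_zero, zero_smul, add_zero, mul_one]
  module

theorem hel_perp (h : Hyp Q x y) (t : Fˣ) {v : V} (hx : polar Q x v = 0) (hy : polar Q y v = 0) :
    hel h t v = v := by
  rw [hel_apply, hx, hy, mul_zero, mul_zero, zero_smul, zero_smul, add_zero, add_zero]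

theorem hel_mul (h : Hyp Q x y) (s t : Fˣ) : hel h (s * t) = hel h s * hel h t := by
  ext v
  show _ = hel h s (hel h t v)
  rw [hel_apply, hel_apply, hel_apply]
  simp only [polar_add_right, polar_smul_right, h.polar_left, h.polar_right, h.pair, h.pair',
    smul_eq_mul, mul_zero, mul_one, add_zero, mul_inv, Units.val_mul]
  match_scalars <;> ring

theorem hel_one (h : Hyp Q x y) : hel h 1 = 1 := by
  have h1 := hel_mul h 1 1
  rw [mul_one] at h1
  exact (mul_eq_left.1 h1.symm)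

/-- The torus element as a homomorphism to `E Q`. -/
def helHom (hG : Good Q) (h : Hyp Q x y) : Fˣ →* ↥(E Q) where
  toFun t := ⟨hel h t, hel_mem_E hG h t⟩
  map_one' := Subtype.ext (hel_one h)
  map_mul' s t := Subtype.ext (hel_mul h s t)

/-- The torus element does not commute with the Siegel elements of the vector `x`. -/
theorem hel_siegel_ne (h : Hyp Q x y) {a : V} (hxa : polar Q x a = 0) (hya : polar Q y a = 0)
    (ha : a ≠ 0) {t : Fˣ} (ht : (t : F) ^ 2 ≠ 1) :
    hel h t * siegel Q x a h.left hxa ≠ siegel Q x a h.left hxa * hel h t := by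
  intro hcon
  have h1 := LinearEquiv.congr_fun hcon y
  change hel h t (siegel Q x a h.left hxa y) = siegel Q x a h.left hxa (hel h t y) at h1
  have hay : polar Q a y = 0 := by rw [polar_comm]; exact hya
  rw [hel_right, map_smul, siegel_apply, h.pair, hay, one_smul, zero_smul, sub_zero, mul_one,
    map_sub, map_add, map_smul, hel_right, hel_perp h t hxa hya, hel_left] at h1
  -- compare
  have hinv : ((t⁻¹ : Fˣ) : F) ^ 2 * (t : F) ^ 2 = 1 := by
    rw [← mul_pow, Units.inv_mul, one_pow]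
  have h2 : (1 - ((t⁻¹ : Fˣ) : F) ^ 2) • a =
      (Q a * ((t : F) ^ 2 - ((t⁻¹ : Fˣ) : F) ^ 2)) • x := by
    have h3 : (1 - ((t⁻¹ : Fˣ) : F) ^ 2) • a - (Q a * ((t : F) ^ 2 - ((t⁻¹ : Fˣ) : F) ^ 2)) • x =
        (((t⁻¹ : Fˣ) : F) ^ 2 • y + a - Q a • (t : F) ^ 2 • x) -
          ((t⁻¹ : Fˣ) : F) ^ 2 • (y + a - Q a • x) := by
      module
    rw [h1, sub_self] at h3
    exact sub_eq_zero.1 h3
  have h4 := congrArg (polar Q y) h2
  rw [polar_smul_right, polar_smul_right, hya, h.pair', smul_zero, smul_eq_mul, mul_one] at h4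
  rw [← h4, zero_smul] at h2
  rcases smul_eq_zero.1 h2 with h5 | h5
  · apply ht
    have h6 : ((t⁻¹ : Fˣ) : F) ^ 2 = 1 := (sub_eq_zero.1 h5).symm
    rw [h6, one_mul] at hinv
    exact hinv
  · exact ha h5

/-! ### Semisimilitudes fixing the pair -/

/-- Semisimilitudes fixing `x` and mapping `y` to a multiple. -/
def Fix (x y : V) (M : Gam Q) : Prop :=
  M.1 x = x ∧ ∃ (σ : F ≃+* F) (c : F), IsSS Q σ c M.1 ∧ M.1 y = c • y

theorem Fix.one : Fix x y (1 : Gam Q) :=
  ⟨rfl, RingEquiv.refl F, 1, ⟨one_ne_zero, fun _ _ => rfl, fun _ _ => rfl, fun _ => by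
    rw [one_mul]; rfl⟩, (one_smul F y).symm⟩

theorem Fix.mul {M N : Gam Q} (hM : Fix x y M) (hN : Fix x y N) : Fix x y (M * N) := by
  obtain ⟨h1, σ, c, h2, h3⟩ := hM
  obtain ⟨k1, τ, d, k2, k3⟩ := hN
  refine ⟨?_, _, _, h2.mul k2, ?_⟩
  · show M.1 (N.1 x) = x
    rw [k1, h1]
  · show M.1 (N.1 y) = _
    rw [k3, h2.smul, h3, smul_smul, mul_comm]

theorem Fix.pow {M : Gam Q} (hM : Fix x y M) (k : ℕ) : Fix x y (M ^ k) := by
  induction k with
  | zero => rw [pow_zero]; exact Fix.one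
  | succ k ih => rw [pow_succ]; exact ih.mul hM

theorem exists_adj (hG : Good Q) (M : Gam Q) (h : Hyp Q x y) :
    ∃ M' : Gam Q, sg hG M' = sg hG M ∧ Fix x y M' := by
  obtain ⟨σ, c, hM⟩ := M.2
  have hc := hM.ne
  have h1 : Hyp Q (M.1 x) (c⁻¹ • M.1 y) := by
    refine ⟨?_, ?_, ?_⟩
    · rw [hM.form, h.left, map_zero, mul_zero]
    · rw [QuadraticMap.map_smul, hM.form, h.right, map_zero, mul_zero, smul_zero]
    · rw [polar_smul_right, hM.polar, h.pair, map_one, mul_one, smul_eq_mul, inv_mul_cancel₀ hc]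
  obtain ⟨g, hg, e1, e2⟩ := hG.trans_hyp h1 h
  refine ⟨ofO Q ⟨g, E_le_O hg⟩ * M, ?_, ?_, _, _, (isSS_ofO _).mul hM, ?_⟩
  · rw [map_mul, sg_ofO, one_mul]
  · exact e1
  · show g (M.1 y) = _
    have h2 : M.1 y = c • c⁻¹ • M.1 y := by rw [smul_smul, mul_inv_cancel₀ hc, one_smul]
    rw [h2, map_smul, e2]
    show c • y = ((1 : F) * c) • y
    rw [one_mul]

theorem conjLin_hel (hG : Good Q) (h : Hyp Q x y) {M : Gam Q} (hM : Fix x y M) (t : Fˣ) :
    conjLin M (hel h t) = hel h (Units.map (sg hG M : F →* F) t) := by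
  obtain ⟨h1, σ, c, h2, h3⟩ := hM
  have hsg : sg hG M = σ := sg_eq hG h2
  rw [hsg]
  have hc := h2.ne
  ext v
  obtain ⟨v, rfl⟩ := M.1.surjective v
  rw [conjLin_apply', hel_apply, hel_apply]
  have e1 : polar Q x (M.1 v) = c * σ (polar Q x v) := by
    have := h2.polar x v
    rwa [h1] at this
  have e2 : polar Q y (M.1 v) = σ (polar Q y v) := by
    have := h2.polar y v
    rw [h3, polar_smul_left, smul_eq_mul] at this
    exact mul_left_cancel₀ hc this
  rw [h2.add, h2.add, h2.smul, h2.smul, h1, h3, e1, e2]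
  have e3 : ((Units.map ((σ : RingAut F) : F →* F) t : Fˣ) : F) = σ (t : F) := rfl
  have e4 : (((Units.map ((σ : RingAut F) : F →* F) t)⁻¹ : Fˣ) : F) = σ ((t⁻¹ : Fˣ) : F) := by
    rw [← map_inv]; rfl
  rw [e3, e4]
  simp only [map_mul, map_sub, map_pow, map_one]
  module

end Cfsg.Agent.H989.TorusOrth
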