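import Mathlib
import Cfsg.Agent.H254.CopOrth
import Cfsg.Agent.H716.CopRow
import Cfsg.Agent.H989.TorusOrth
import Cfsg.Agent.S0205

/-!
# The rows `TRow` of the simple orthogonal groups

For every automorphism `α` of prime order `p ∤ #K` of `K = PΩ(Q)` there are commuting elements `e`, `u` with
`r ∣ orderOf u` (`r` the characteristic), `orderOf e` prime to `orderOf u`, `α e ∈ ⟨e⟩`, `α e ≠ e`.
-/

set_option autoImplicit false

namespace Cfsg.Agent.H989.TRowOrth

open Subgroup QuadraticMap Cfsg.Agent.LieClassical.OrthCore Cfsg.Agent.LieClassical.OrthTrans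
  Cfsg.Agent.LieClassical.OrthSimple Cfsg.Agent.ClassicalGeometry.OrthSemi
  Cfsg.Agent.ClassicalGeometry.OrthSemiCount Cfsg.Agent.ClassicalGeometry.OrthAut1
  Cfsg.Agent.ClassicalGeometry.OrthSemiForms Cfsg.Agent.LieClassical.OrthForms
  Cfsg.Agent.H989.OutOrth.Basic Cfsg.Agent.H989.OutOrth.Forms Cfsg.Agent.H989.TorusOrth
  Cfsg.Agent.H254 Cfsg.Agent.H254.Orth Cfsg.Agent.H716.CopRow Cfsg.Agent.Schreier.Basic

/-! ### Preliminaries -/

theorem exists_of_conj {K : Type*} [Group K] {r : ℕ} {α g : MulAut K}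
    (h : ∃ e u : K, Commute e u ∧ r ∣ orderOf u ∧ (orderOf e).Coprime (orderOf u) ∧
      MulAut.conj g α e ∈ zpowers e ∧ MulAut.conj g α e ≠ e) :
    ∃ e u : K, Commute e u ∧ r ∣ orderOf u ∧ (orderOf e).Coprime (orderOf u) ∧
      α e ∈ zpowers e ∧ α e ≠ e := by
  obtain ⟨e, u, h1, h2, h3, h4, h5⟩ := h
  have key : g⁻¹ (MulAut.conj g α e) = α (g⁻¹ e) := by
    show g⁻¹ (g (α (g⁻¹ e))) = α (g⁻¹ e)
    exact MulAut.inv_apply_self _ _ _
  refine ⟨g⁻¹ e, g⁻¹ u, h1.map (g⁻¹ : MulAut K), ?_, ?_, ?_, ?_⟩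
  · rwa [MulEquiv.orderOf_eq]
  · rwa [MulEquiv.orderOf_eq, MulEquiv.orderOf_eq]
  · rw [← key]
    obtain ⟨k, hk⟩ := h4
    refine ⟨k, ?_⟩
    show g⁻¹ e ^ k = g⁻¹ (MulAut.conj g α e)
    rw [← map_zpow]
    exact congrArg _ hk
  · rw [← key]
    exact fun h => h5 ((g⁻¹ : MulAut K).injective h)

/-- A field automorphism fixing the squares is trivial. -/
theorem eq_one_of_sq {F : Type*} [Field F] {ρ : RingAut F} (h : ∀ z : F, ρ (z ^ 2) = z ^ 2) : ρ = 1 := by
  apply RingEquiv.ext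
  intro z
  show ρ z = z
  by_cases h2 : (2 : F) = 0
  · have h3 := h z
    rw [map_pow] at h3
    have h4 : (ρ z - z) ^ 2 = 0 := by linear_combination h3 + (z ^ 2 - ρ z * z) * h2
    exact sub_eq_zero.1 (pow_eq_zero_iff two_ne_zero |>.1 h4)
  · have h3 := h z
    have h4 := h (z + 1)
    rw [map_pow, map_add, map_one] at h4
    rw [map_pow] at h3
    have h5 : 2 * (ρ z - z) = 0 := by linear_combination h4 - h3
    rcases mul_eq_zero.1 h5 with h6 | h6
    · exact absurd h6 h2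
    · exact sub_eq_zero.1 h6

section main

variable {F V : Type*} [Field F] [AddCommGroup V] [Module F V] {Q : QuadraticForm F V} {x y : V}

theorem siegel_pow {u w : V} (hu : Q u = 0) (hw : polar Q u w = 0) (n : ℕ)
    (hn : polar Q u ((n : F) • w) = 0) :
    siegel Q u w hu hw ^ n = siegel Q u ((n : F) • w) hu hn := by
  induction n with
  | zero =>
    rw [pow_zero]
    ext v
    rw [siegel_apply, Nat.cast_zero, zero_smul, smul_zero, polar_zero_left, zero_smul,
      QuadraticMap.map_zero, zero_mul, zero_smul]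
    show v = _
    rw [add_zero, sub_zero, sub_zero]
  | succ n ih =>
    have h1 : polar Q u ((n : F) • w) = 0 := by rw [polar_smul_right, hw, smul_zero]
    have h2 : polar Q u ((n : F) • w + w) = 0 := by rw [polar_add_right, h1, hw, add_zero]
    rw [pow_succ, ih h1, siegel_mul hu h1 hw h2]
    congr 1
    rw [Nat.cast_succ, add_smul, one_smul]

theorem siegel_pow_char {r : ℕ} [CharP F r] {u w : V} (hu : Q u = 0) (hw : polar Q u w = 0) :
    siegel Q u w hu hw ^ r = 1 := by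
  have h0 : ((r : F)) • w = 0 := by rw [CharP.cast_eq_zero, zero_smul]
  have hn : polar Q u ((r : F) • w) = 0 := by rw [h0, polar_zero_right]
  rw [siegel_pow hu hw r hn]
  ext v
  rw [siegel_apply, h0, smul_zero, polar_zero_left, zero_smul, QuadraticMap.map_zero, zero_mul,
    zero_smul]
  show _ = v
  rw [add_zero, sub_zero, sub_zero]

theorem tRow_P [Finite F] [Finite V] (hG : Good Q) (h : Hyp Q x y) {M₀ : Gam Q} (hfix : Fix x y M₀)
    (hcop : CopIn (P Q) (Psi Q M₀))
    (hD : ∀ p : ℕ, p.Prime → p ∣ Nat.card (D hG) → p ∣ Nat.card (P Q)) (r : ℕ) [hr : Fact r.Prime]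
    [CharP F r] : TRow r (P Q) := by
  intro p hp hpP α hα
  have hfinE : Finite (V ≃ₗ[F] V) := Finite.of_injective (fun g => g.toEquiv)
    fun g h e => LinearEquiv.toEquiv_injective e
  have hfin : Finite (P Q) := inferInstance
  have hfin2 : Finite (MulAut (P Q)) := inferInstance
  -- conjugate into the group of field automorphisms
  have hA : (Nat.card (zpowers α)).Coprime (Nat.card (P Q)) := by
    rw [Nat.card_zpowers, hα]
    exact (Nat.Prime.coprime_iff_not_dvd hp).2 hpP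
  obtain ⟨g, hg⟩ := hcop _ hA
  apply exists_of_conj (g := g)
  have h1 : MulAut.conj g α ∈ zpowers (Psi Q M₀) := hg ⟨α, mem_zpowers α, rfl⟩
  obtain ⟨k, hk⟩ := mem_powers_iff_mem_zpowers.2 h1
  have hk' : Psi Q (M₀ ^ k) = MulAut.conj g α := by rw [map_pow]; exact hk
  rw [← hk']
  have hM := hfix.pow k
  have hord : orderOf (Psi Q (M₀ ^ k)) = p := by
    rw [hk', ← hα]
    exact (MulAut.conj g : MulAut (P Q) ≃* MulAut (P Q)).orderOf_eq α
  set M := M₀ ^ k with hMdef
  clear_value M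
  -- the field automorphism is not trivial
  have hρ : sg hG M ≠ 1 := by
    intro h2
    have h3 : out Q M ∈ D hG := out_mem_D.2 h2
    have h4 : orderOf (out Q M) ∣ p := by
      rw [← hord]
      exact orderOf_map_dvd (QuotientGroup.mk' (Cfsg.Inn (P Q))) (Psi Q M)
    rcases (Nat.dvd_prime hp).1 h4 with h5 | h5
    · rw [orderOf_eq_one_iff] at h5
      have h6 : Psi Q M ∈ Cfsg.Inn (P Q) := (QuotientGroup.eq_one_iff _).1 h5
      have h7 : p ∣ Nat.card (Cfsg.Inn (P Q)) := by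
        rw [← hord]
        have := orderOf_dvd_natCard (⟨Psi Q M, h6⟩ : Cfsg.Inn (P Q))
        rwa [Subgroup.orderOf_mk] at this
      rw [card_Inn hG] at h7
      exact hpP h7
    · apply hpP
      apply hD p hp
      rw [← h5]
      have := orderOf_dvd_natCard (⟨out Q M, h3⟩ : D hG)
      rwa [Subgroup.orderOf_mk] at this
  -- a generator of the multiplicative group
  obtain ⟨t, ht⟩ := IsCyclic.exists_generator (α := Fˣ)
  set ρ : Fˣ →* Fˣ := Units.map (sg hG M : F →* F) with hρdef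
  obtain ⟨k₁, hk₁⟩ := mem_powers_iff_mem_zpowers.2 (ht (ρ t))
  have hk₁' : t ^ k₁ = ρ t := hk₁
  set s : Fˣ := t⁻¹ * ρ t with hs
  have hs1 : (s : F) ^ 2 ≠ 1 := by
    intro h2
    apply hρ
    apply eq_one_of_sq
    have h3 : s ^ 2 = 1 := Units.ext (by rw [Units.val_pow_eq_pow_val, h2, Units.val_one])
    have h4 : ρ (t ^ 2) = t ^ 2 := by
      rw [hs, mul_pow, inv_pow, inv_mul_eq_one] at h3
      rw [map_pow, ← h3]
    intro z
    by_cases hz : z = 0
    · rw [hz, zero_pow two_ne_zero, map_zero]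
    obtain ⟨n, hn⟩ := ht (Units.mk0 z hz)
    have hn' : t ^ n = Units.mk0 z hz := hn
    have h5 : ρ ((Units.mk0 z hz) ^ 2) = (Units.mk0 z hz) ^ 2 := by
      rw [← hn', ← zpow_natCast, ← zpow_mul, mul_comm, zpow_mul, map_zpow, zpow_natCast, h4]
    exact congrArg Units.val h5
  -- the elements
  obtain ⟨z, w, h', hxz, hxw, hyz, hyw⟩ := hG.exists_hyp2 h
  obtain ⟨a, ha0, ha⟩ := exists_perp_ne (Q := Q) ![x, y, z, w] (by have := hG.dim; omega)
  have hxa : polar Q x a = 0 := ha 0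
  have hya : polar Q y a = 0 := ha 1
  have hza : polar Q z a = 0 := ha 2
  have hwa : polar Q w a = 0 := ha 3
  have hne : ∀ {x' y' : V} (H : Hyp Q x' y') (hx' : polar Q x' a = 0) (hy' : polar Q y' a = 0),
      helHom hG H s ∉ center ↥(E Q) ∧ (⟨siegel Q x' a H.left hx', siegel_mem_E _ _⟩ : ↥(E Q)) ∉ center ↥(E Q) := by
    intro x' y' H hx' hy'
    have h2 := hel_siegel_ne H hx' hy' ha0 hs1
    constructor
    · intro h3
      apply h2
      have h4 := Subgroup.mem_center_iff.1 h3 ⟨siegel Q x' a H.left hx', siegel_mem_E _ _⟩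
      exact (congrArg Subtype.val h4).symm
    · intro h3
      apply h2
      have h4 := Subgroup.mem_center_iff.1 h3 (helHom hG H s)
      exact congrArg Subtype.val h4
  have hPe : ∀ t' : Fˣ, Psi Q M (QuotientGroup.mk (helHom hG h t')) = QuotientGroup.mk (helHom hG h (ρ t')) := by
    intro t'
    rw [Psi_mk]
    congr 1
    apply Subtype.ext
    rw [coe_conjE]
    exact conjLin_hel hG h hM t'
  have hu : orderOf (QuotientGroup.mk ⟨siegel Q z a h'.left hza, siegel_mem_E _ _⟩ : P Q) = r := by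
    refine orderOf_eq_prime ?_ ?_
    · rw [← QuotientGroup.mk_pow, QuotientGroup.eq_one_iff]
      have h2 : (⟨siegel Q z a h'.left hza, siegel_mem_E _ _⟩ : ↥(E Q)) ^ r = 1 :=
        Subtype.ext (siegel_pow_char h'.left hza)
      rw [h2]
      exact one_mem _
    · rw [Ne, QuotientGroup.eq_one_iff]
      exact (hne h' hza hwa).2
  have hcp : (orderOf (QuotientGroup.mk (helHom hG h t) : P Q)).Coprime r := by
    rw [Nat.coprime_comm, Nat.Prime.coprime_iff_not_dvd hr.out]
    intro h2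
    have h3 : orderOf (QuotientGroup.mk (helHom hG h t) : P Q) ∣ Nat.card Fˣ :=
      ((orderOf_map_dvd (QuotientGroup.mk' _) _).trans (orderOf_map_dvd (helHom hG h) t)).trans
        (orderOf_dvd_natCard t)
    have : Fintype F := Fintype.ofFinite F
    obtain ⟨n, -, hn⟩ := FiniteField.card F r
    have h4 : r ∣ Nat.card F := by
      rw [Nat.card_eq_fintype_card, hn]
      exact dvd_pow_self r n.pos.ne'
    have h5 : Nat.card Fˣ + 1 = Nat.card F := by
      rw [Nat.card_units]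
      have : 0 < Nat.card F := Nat.card_pos
      omega
    have h6 : r ∣ 1 := (Nat.dvd_add_right (h2.trans h3)).1 (h5 ▸ h4)
    exact hr.out.one_lt.ne' (Nat.dvd_one.1 h6)
  refine ⟨QuotientGroup.mk (helHom hG h t), QuotientGroup.mk ⟨siegel Q z a h'.left hza, siegel_mem_E _ _⟩, ?_, ?_,
    ?_, ?_, ?_⟩
  · show (QuotientGroup.mk _ : P Q) * QuotientGroup.mk _ = QuotientGroup.mk _ * QuotientGroup.mk _
    rw [← QuotientGroup.mk_mul, ← QuotientGroup.mk_mul]
    congr 1
    apply Subtype.ext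
    show hel h t * siegel Q z a h'.left hza = siegel Q z a h'.left hza * hel h t
    have e1 : hel h t z = z := hel_perp h t hxz hyz
    have e2 : hel h t a = a := hel_perp h t hxa hya
    have h2 := siegel_conj (hel_mem_O h t) h'.left hza (by rw [e1]; exact h'.left) (by rw [e1, e2]; exact hza)
    rw [mul_inv_eq_iff_eq_mul] at h2
    rw [h2]
    congr 1
    ext v
    rw [siegel_apply, siegel_apply, e1, e2]
  · rw [hu]
  · rw [hu]; exact hcp
  · rw [hPe, ← hk₁', map_pow, QuotientGroup.mk_pow]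
    exact Subgroup.npow_mem_zpowers _ _
  · rw [hPe]
    intro h2
    apply (hne h hxa hya).1
    have h3 := QuotientGroup.eq.1 h2.symm
    rw [hs, map_mul, map_inv]
    exact h3

end main

/-! ### The three families -/

section fam

variable {F : Type*} [Field F] [Fintype F] {ι : Type} [Fintype ι] [DecidableEq ι]
  {Q : QuadraticForm F (ι → F)}

omit [Fintype F] [Fintype ι] [DecidableEq ι] in
theorem not_comm_P (hG : Good Q) : ¬ IsMulCommutative (P Q) := by
  intro hc
  have hs : IsSimpleGroup (P Q) := good_isSimpleGroup hG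
  obtain ⟨p, hp⟩ := exists_ne (1 : P Q)
  apply hp
  apply conj_injective hG
  ext z
  rw [map_one, MulAut.conj_apply, MulAut.one_apply, hc.is_comm.comm p z, mul_inv_cancel_right]

omit [DecidableEq ι] in
theorem two_dvd_P (hG : Good Q) : 2 ∣ Nat.card (P Q) := by
  have hfinE : Finite ((ι → F) ≃ₗ[F] (ι → F)) := Finite.of_injective (fun g => g.toEquiv)
    fun g h e => LinearEquiv.toEquiv_injective e
  have hfin : Finite (P Q) := inferInstance
  have hs : IsSimpleGroup (P Q) := good_isSimpleGroup hG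
  by_contra h
  have hodd : Odd (Nat.card (P Q)) := by
    rw [← Nat.not_even_iff_odd, even_iff_two_dvd]
    exact h
  have hs' := Cfsg.Agent.S0205.result hodd
  apply not_comm_P hG
  refine ⟨⟨fun a b => ?_⟩⟩
  exact (IsSimpleGroup.comm_iff_isSolvable.2 hs') a b

theorem dvd_of_dvd_two_gcd {p n c : ℕ} (hp : p.Prime) (h : p ∣ 2 * Nat.gcd 4 n) (hc : 2 ∣ c) : p ∣ c := by
  have h2 : p ∣ 2 ^ 3 := by
    have h3 : 2 * Nat.gcd 4 n ∣ 2 * 4 := Nat.mul_dvd_mul_left _ (Nat.gcd_dvd_left _ _)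
    exact h.trans h3
  rw [(Nat.prime_dvd_prime_iff_eq hp Nat.prime_two).1 (hp.dvd_of_dvd_pow h2)]
  exact hc

/-- The general form. -/
theorem tRow_of (hG : Good Q) (hs : Sch (P Q)) {p₀ f : ℕ} [Fact p₀.Prime] (hf : 1 ≤ f)
    (hF : Fintype.card F = p₀ ^ f) (hex : ∀ σ : RingAut F, ∃ M, IsSS Q σ 1 M) {c N : ℕ} (hc0 : c ≠ 0)
    (hc : ∀ p : ℕ, p.Prime → p ∣ c → p ∣ Nat.card (P Q))
    (hN : ∀ p : ℕ, p.Prime → p ∣ N → p ∣ Nat.card (P Q))
    (hAut : Nat.card (MulAut (Cfsg.POmega F ⇑Q)) ∣ c * f * Nat.card (Cfsg.POmega F ⇑Q))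
    (hrange : Nat.card (Psi Q).range = N * f * Nat.card (Cfsg.POmega F ⇑Q)) (r : ℕ) [Fact r.Prime]
    [CharP F r] : TRow r (Cfsg.POmega F ⇑Q) := by
  have hfinE : Finite ((ι → F) ≃ₗ[F] (ι → F)) := Finite.of_injective (fun g => g.toEquiv)
    fun g h e => LinearEquiv.toEquiv_injective e
  have hfin : Finite (P Q) := inferInstance
  have hsi : IsSimpleGroup (P Q) := good_isSimpleGroup hG
  have hna := not_comm_P hG
  obtain ⟨x, y, h⟩ := hG.exists_hyp
  obtain ⟨ρ, hρ, -⟩ := exists_ringAut F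
  have hf' : Nat.card (F ≃+* F) = f := Lib.FieldAutCard.card_ringAut hf hF
  obtain ⟨M, hM⟩ := hex ρ
  obtain ⟨M₀, hM₀, hfix⟩ := exists_adj hG (⟨M, ρ, 1, hM⟩ : Gam Q) h
  have hsg : sg hG M₀ = ρ := by
    rw [hM₀]
    exact sg_eq hG hM
  have hord : f ∣ orderOf (Psi Q M₀) := by
    obtain ⟨-, σ, d, h2, -⟩ := hfix
    have h3 : sg hG M₀ = σ := sg_eq hG h2
    rw [hsg] at h3
    have h4 : orderOf σ ∣ orderOf (Psi Q M₀) := orderOf_dvd hG h2
    rw [← h3, hρ, hf'] at h4
    exact h4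
  have hcop : CopIn (P Q) (Psi Q M₀) := by
    refine CopIn.of_card hna hs _ c hc0 hc ?_
    rw [← card_mulAut hG]
    refine hAut.trans ?_
    rw [← card_P hG]
    exact Nat.mul_dvd_mul_right (Nat.mul_dvd_mul_left _ hord) _
  have hsurj : Function.Surjective (sg hG) := by
    intro σ
    obtain ⟨M', hM'⟩ := hex σ
    exact ⟨⟨M', σ, 1, hM'⟩, sg_eq hG hM'⟩
  have hD : Nat.card (D hG) = N := card_D_eq hf hF hG hsurj hrange
  have key : TRow r (P Q) := tRow_P hG h hfix hcop (by rw [hD]; exact hN) r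
  exact key.congr (pomegaEquiv hG).symm

end fam

section final

variable {r : ℕ} [hr : Fact r.Prime] {F : Type*} [Field F] [Fintype F] [CharP F r] {m : ℕ}

theorem exists_card (F : Type*) [Field F] [Fintype F] :
    ∃ (p f : ℕ), Fact p.Prime ∧ 1 ≤ f ∧ Fintype.card F = p ^ f := by
  obtain ⟨p, hchar⟩ := CharP.exists F
  obtain ⟨f, hp, hf⟩ := FiniteField.card F p
  exact ⟨p, f, ⟨hp⟩, f.pos, hf⟩

theorem tRow_po_odd (hm : 3 ≤ m) (hodd : Odd (Fintype.card F)) :
    TRow r (Cfsg.POmega F (Cfsg.quadFormOdd m F)) := by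
  obtain ⟨p, f, hp, hf, hF⟩ := exists_card F
  have hpodd : Odd p := by
    rw [hF] at hodd
    exact (Nat.odd_pow_iff (by omega)).1 hodd
  have h20 : (2 : F) ≠ 0 := Cfsg.Agent.LieClassical.PomegaCard.odd_card_iff.1 hodd
  have hG := good_odd (F := F) (m := m) (by omega) h20
  have hs : Sch (P (oddForm m F)) := by
    have h1 := Cfsg.Agent.Schreier.ClassPOmega.sch_odd (F := F) hm h20
    rw [← coe_oddForm] at h1
    exact Sch.of_equiv (pomegaEquiv hG) h1
  have h2 := two_dvd_P hG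
  have hAut := S0816.result p f hf hF hpodd m hm
  have hrange := card_range_odd hf hF hpodd hm
  rw [← coe_oddForm] at hAut hrange ⊢
  have h22 : ∀ q : ℕ, q.Prime → q ∣ 2 → q ∣ Nat.card (P (oddForm m F)) := fun q hq hd => by
    rw [(Nat.prime_dvd_prime_iff_eq hq Nat.prime_two).1 hd]; exact h2
  exact tRow_of hG hs hf hF (fun σ => odd_exists h20 m σ) two_ne_zero h22 h22 (by rw [hAut]) hrange r

theorem tRow_po_plus (hm : 4 ≤ m) : TRow r (Cfsg.POmega F (Cfsg.quadFormPlus m F)) := by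
  obtain ⟨p, f, hp, hf, hF⟩ := exists_card F
  have hG := good_plus (F := F) (m := m) (by omega)
  have hs : Sch (P (plusForm m F)) := by
    have h1 := Cfsg.Agent.Schreier.ClassPOmega.sch_plus (F := F) hm
    rw [← coe_plusForm] at h1
    exact Sch.of_equiv (pomegaEquiv hG) h1
  have h2 := two_dvd_P hG
  have h3 : 3 ∣ Nat.card (P (plusForm m F)) := by
    rw [card_P hG, coe_plusForm]
    exact three_dvd_plus hm
  have hAut := S0817.result (F := F) p f hf hF m hm
  have hrange := card_range_plus (F := F) hf hF hm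
  rw [← coe_plusForm] at hAut hrange ⊢
  refine tRow_of hG hs hf hF (fun σ => plus_exists m σ 1 one_ne_zero) (c := 3 * 8) (by norm_num) ?_
    (fun q hq hd => dvd_of_dvd_two_gcd hq hd h2) ?_ hrange r
  · intro q hq hd
    rcases (hq.dvd_mul).1 hd with h | h
    · rw [(Nat.prime_dvd_prime_iff_eq hq Nat.prime_three).1 h]; exact h3
    · have h4 : q ∣ 2 ^ 3 := h
      rw [(Nat.prime_dvd_prime_iff_eq hq Nat.prime_two).1 (hq.dvd_of_dvd_pow h4)]; exact h2
  · rw [hAut]
    have h6 : (if m = 4 then 3 else 1) ∣ 3 := by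
      split_ifs
      · exact dvd_rfl
      · exact one_dvd _
    have h7 : (if p = 2 then 2 else (if Even (m * (p ^ f - 1) / 2) then 8 else 4)) ∣ 8 := by
      split_ifs
      · exact ⟨4, by norm_num⟩
      · exact dvd_rfl
      · exact ⟨2, by norm_num⟩
    exact Nat.mul_dvd_mul_right (Nat.mul_dvd_mul_right (Nat.mul_dvd_mul h6 h7) _) _

theorem tRow_po_minus (hm : 4 ≤ m) (a b : F)
    (hab : ∀ z₁ z₂ : F, z₁ ^ 2 + a * z₁ * z₂ + b * z₂ ^ 2 = 0 → z₁ = 0 ∧ z₂ = 0) :
    TRow r (Cfsg.POmega F (Cfsg.quadFormMinus (m - 1) F a b)) := by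
  obtain ⟨p, f, hp, hf, hF⟩ := exists_card F
  have hG := good_minus (F := F) (m := m - 1) (by omega) a b hab
  have hs : Sch (P (minusForm (m - 1) F a b)) := by
    have h1 := Cfsg.Agent.Schreier.ClassPOmega.sch_minus (F := F) hm a b hab
    rw [← coe_minusForm] at h1
    exact Sch.of_equiv (pomegaEquiv hG) h1
  have h2 := two_dvd_P hG
  have hAut := S0818.result (F := F) p f hf hF m hm a b hab
  have hrange := card_range_minus (F := F) hf hF hm a b hab
  rw [← coe_minusForm] at hAut hrange ⊢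
  refine tRow_of hG hs hf hF (fun σ => minus_exists (m - 1) a b hab σ 1 one_ne_zero) (c := 8) (by norm_num) ?_
    (fun q hq hd => dvd_of_dvd_two_gcd hq hd h2) ?_ hrange r
  · intro q hq hd
    have h4 : q ∣ 2 ^ 3 := hd
    rw [(Nat.prime_dvd_prime_iff_eq hq Nat.prime_two).1 (hq.dvd_of_dvd_pow h4)]; exact h2
  · rw [hAut]
    have h7 : (if p = 2 then 2 else (if Even (m * (p ^ f - 1) / 2) then 4 else 8)) ∣ 8 := by
      split_ifs
      · exact ⟨4, by norm_num⟩
      · exact ⟨2, by norm_num⟩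
      · exact dvd_rfl
    exact Nat.mul_dvd_mul_right (Nat.mul_dvd_mul_right h7 _) _

end final

end Cfsg.Agent.H989.TRowOrth
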