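import Mathlib
import Cfsg.Agent.H430.CfBase
import Cfsg.Agent.AutOrth.Final
import Cfsg.Agent.LieClassical.QuadCount
import Cfsg.Agent.LieClassical.PomegaCard
import Cfsg.Agent.S0289
import Cfsg.Agent.S0290
import Cfsg.Agent.S0291

/-!
# The singular points of an orthogonal space as an invariant class of subgroups

`HasInv (POmega F Q) N` for the three standard forms, with `N` the number of singular points (eight-dimensional
hyperbolic form excepted).
-/

set_option autoImplicit false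

namespace Cfsg.Agent.H989.HasInvOrth

open QuadraticMap Cfsg.Agent.LieClassical.OrthCore Cfsg.Agent.LieClassical.OrthTrans
  Cfsg.Agent.LieClassical.OrthSimple Cfsg.Agent.ClassicalGeometry.OrthSemi
  Cfsg.Agent.ClassicalGeometry.OrthAut1 Cfsg.Agent.ClassicalGeometry.OrthSemiForms
  Cfsg.Agent.LieClassical.OrthForms Cfsg.Agent.H430.CfBase

universe u v

/-- `HasInv` along an isomorphism. -/
theorem of_equiv {S : Type u} [Group S] {T : Type v} [Group T] (e : S ≃* T) {N : ℕ} (h : HasInv S N) :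
    HasInv T N := by
  obtain ⟨K, h1, h2, h3⟩ := h
  have h4 : ∀ β : MulAut S, (K.map e.toMonoidHom).map ((MulAut.congr e) β).toMonoidHom =
      (K.map β.toMonoidHom).map e.toMonoidHom := by
    intro β
    rw [Subgroup.map_map, Subgroup.map_map]
    congr 1
    ext x
    simp [MulAut.congr]
  refine ⟨K.map e.toMonoidHom, ?_, ?_, ?_⟩
  · intro h
    apply h1
    rw [eq_top_iff]
    intro x _
    have : e x ∈ K.map e.toMonoidHom := by rw [h]; exact Subgroup.mem_top _
    obtain ⟨y, hy, hyx⟩ := this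
    rwa [← e.injective hyx]
  · intro α
    obtain ⟨s, hs⟩ := h2 ((MulAut.congr e).symm α)
    refine ⟨e s, ?_⟩
    have h5 := h4 ((MulAut.congr e).symm α)
    rw [MulEquiv.apply_symm_apply] at h5
    rw [h5, hs, ← h4]
    congr 2
    ext x
    simp [MulAut.congr]
  · rwa [show (K.map e.toMonoidHom).index = K.index from Subgroup.index_map_equiv K e]

section Gen

variable {F V : Type u} [Field F] [AddCommGroup V] [Module F V] {Q : QuadraticForm F V}

/-- Singular points. -/
def SP (Q : QuadraticForm F V) : Type _ :=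
  {L : Submodule F V // ∃ x, x ≠ 0 ∧ Q x = 0 ∧ L = Submodule.span F {x}}

/-- The chosen vector. -/
noncomputable def SP.vec (L : SP Q) : V := L.2.choose

theorem SP.vec_ne (L : SP Q) : L.vec ≠ 0 := L.2.choose_spec.1

theorem SP.vec_sing (L : SP Q) : Q L.vec = 0 := L.2.choose_spec.2.1

theorem SP.span_vec (L : SP Q) : L.1 = Submodule.span F {L.vec} := L.2.choose_spec.2.2

/-- The point spanned by a singular vector. -/
def pt {x : V} (hx : x ≠ 0) (hQ : Q x = 0) : SP Q := ⟨Submodule.span F {x}, x, hx, hQ, rfl⟩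

theorem pact_mem (hG : Good Q) (p : P Q) (L : SP Q) :
    ∃ x, x ≠ 0 ∧ Q x = 0 ∧ pact hG p L.1 = Submodule.span F {x} := by
  obtain ⟨⟨g, hg⟩, rfl⟩ := QuotientGroup.mk_surjective p
  obtain ⟨L, x, hx, hQ, rfl⟩ := L
  refine ⟨g x, ?_, ?_, ?_⟩
  · intro h
    exact hx (g.map_eq_zero_iff.1 h)
  · rw [mem_O.1 (E_le_O hg), hQ]
  · rw [pact_mk]
    exact mapHom_span _ _

/-- The action on singular points. -/
@[reducible]
def act (hG : Good Q) : MulAction (P Q) (SP Q) where
  smul p L := ⟨pact hG p L.1, pact_mem hG p L⟩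
  one_smul L := by
    apply Subtype.ext
    show pact hG 1 L.1 = L.1
    rw [_root_.map_one]; rfl
  mul_smul p p' L := by
    apply Subtype.ext
    show pact hG (p * p') L.1 = pact hG p (pact hG p' L.1)
    rw [map_mul]; rfl

/-- The image of a point under a semisimilitude. -/
noncomputable def img (M : Gam Q) (L : SP Q) : SP Q :=
  ⟨Submodule.span F {M.1 L.vec}, M.1 L.vec, by
    obtain ⟨σ, c, hM⟩ := M.2
    refine ⟨?_, ?_, rfl⟩
    · intro h
      rw [← hM.map_zero] at h
      exact L.vec_ne (M.1.injective h)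
    · rw [hM.form, L.vec_sing, map_zero, mul_zero]⟩

theorem span_eq_iff {x y : V} (hx : x ≠ 0) :
    Submodule.span F {x} = Submodule.span F {y} → ∃ a : F, a ≠ 0 ∧ x = a • y := by
  intro h
  have h1 : x ∈ Submodule.span F {y} := by rw [← h]; exact Submodule.mem_span_singleton_self x
  obtain ⟨a, ha⟩ := Submodule.mem_span_singleton.1 h1
  refine ⟨a, ?_, ha.symm⟩
  rintro rfl
  rw [zero_smul] at ha
  exact hx ha.symm

theorem span_smul {a : F} (ha : a ≠ 0) (y : V) : Submodule.span F {a • y} = Submodule.span F {y} :=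
  Submodule.span_singleton_smul_eq (IsUnit.mk0 a ha) y

theorem img_injective (M : Gam Q) : Function.Injective (img M) := by
  intro L L' h
  obtain ⟨σ, c, hM⟩ := id M.2
  have h1 : Submodule.span F {M.1 L.vec} = Submodule.span F {M.1 L'.vec} := congrArg Subtype.val h
  obtain ⟨a, ha, h2⟩ := span_eq_iff (by
    intro h
    rw [← hM.map_zero] at h
    exact L.vec_ne (M.1.injective h)) h1
  apply Subtype.ext
  rw [L.span_vec, L'.span_vec]
  have h3 : M.1 L.vec = M.1 (σ.symm a • L'.vec) := by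
    rw [hM.smul, RingEquiv.apply_symm_apply]; exact h2
  rw [M.1.injective h3]
  exact span_smul (by simpa using ha) _

theorem img_smul (hG : Good Q) (M : Gam Q) (p : P Q) (L : SP Q) :
    letI := act hG
    img M (p • L) = (Psi Q M p) • img M L := by
  let _ := act hG
  obtain ⟨⟨g, hg⟩, rfl⟩ := QuotientGroup.mk_surjective p
  obtain ⟨σ, c, hM⟩ := id M.2
  apply Subtype.ext
  have h1 : ((QuotientGroup.mk (⟨g, hg⟩ : ↥(E Q)) : P Q) • L).1 = Submodule.span F {g L.vec} := by
    show mapHom g L.1 = _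
    rw [L.span_vec]
    exact mapHom_span _ _
  rw [Psi_mk]
  show Submodule.span F {M.1 ((QuotientGroup.mk (⟨g, hg⟩ : ↥(E Q)) : P Q) • L).vec} =
    mapHom ((conjE Q M ⟨g, hg⟩ : ↥(E Q)) : V ≃ₗ[F] V) (Submodule.span F {M.1 L.vec})
  rw [mapHom_span, coe_conjE, conjLin_apply']
  obtain ⟨a, ha, h2⟩ := span_eq_iff (SP.vec_ne _) ((SP.span_vec _).symm.trans h1)
  rw [h2, hM.smul]
  exact span_smul (by simpa using ha) _

theorem pretransitive (hG : Good Q) : letI := act hG; MulAction.IsPretransitive (P Q) (SP Q) := by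
  let _ := act hG
  refine ⟨fun L L' => ?_⟩
  obtain ⟨g, hg, h⟩ := hG.trans_sing L.vec_sing L'.vec_sing L.vec_ne L'.vec_ne
  refine ⟨(QuotientGroup.mk (⟨g, hg⟩ : ↥(E Q)) : P Q), ?_⟩
  apply Subtype.ext
  show mapHom g L.1 = L'.1
  rw [L.span_vec, L'.span_vec, mapHom_span, h]

theorem nontrivial_SP (hG : Good Q) : Nontrivial (SP Q) := by
  obtain ⟨x, y, h⟩ := hG.exists_hyp
  refine ⟨pt h.left_ne h.left, pt h.symm.left_ne h.symm.left, ?_⟩
  intro he
  have h1 : Submodule.span F {x} = Submodule.span F {y} := congrArg Subtype.val he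
  obtain ⟨a, ha, h2⟩ := span_eq_iff h.left_ne h1
  have h3 := h.pair
  rw [h2, polar_smul_left, polar_self_of_sing h.symm.left, smul_zero] at h3
  exact zero_ne_one h3

/-- Counting singular points by singular vectors. -/
theorem card_SP_mul_le [Finite F] [Finite V] :
    Nat.card (SP Q) * (Nat.card F - 1) ≤ Nat.card {v : V // Q v = 0} - 1 := by
  classical
  have hfin : Finite (SP Q) := Subtype.finite
  let f : SP Q × Fˣ → {v : {v : V // Q v = 0} // v ≠ ⟨0, map_zero Q⟩} := fun z =>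
    ⟨⟨(z.2 : F) • z.1.vec, by rw [QuadraticMap.map_smul, z.1.vec_sing, smul_zero]⟩, by
      intro h
      have h1 : (z.2 : F) • z.1.vec = 0 := congrArg Subtype.val h
      rcases smul_eq_zero.1 h1 with h2 | h2
      · exact z.2.ne_zero h2
      · exact z.1.vec_ne h2⟩
  have hf : Function.Injective f := by
    rintro ⟨L, a⟩ ⟨L', b⟩ h
    have h1 : (a : F) • L.vec = (b : F) • L'.vec := congrArg (fun z => z.1.1) h
    have h2 : L = L' := by
      apply Subtype.ext
      rw [L.span_vec, L'.span_vec, ← span_smul a.ne_zero L.vec, h1, span_smul b.ne_zero]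
    subst h2
    have h3 : ((a : F) - b) • L.vec = 0 := by rw [sub_smul, h1, sub_self]
    rcases smul_eq_zero.1 h3 with h4 | h4
    · rw [Units.ext (sub_eq_zero.1 h4)]
    · exact absurd h4 L.vec_ne
  have h1 := Nat.card_le_card_of_injective f hf
  rw [Nat.card_prod, Nat.card_units] at h1
  refine h1.trans (le_of_eq ?_)
  have h2 := Nat.card_congr (Equiv.sumCompl (fun v : {v : V // Q v = 0} => v = ⟨0, map_zero Q⟩))
  rw [Nat.card_sum] at h2
  have h3 : Nat.card {v : {v : V // Q v = 0} // v = ⟨0, map_zero Q⟩} = 1 := by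
    rw [Nat.card_eq_one_iff_unique]
    exact ⟨⟨fun a b => Subtype.ext (a.2.trans b.2.symm)⟩, ⟨⟨_, rfl⟩⟩⟩
  have h4 : Nat.card {v : {v : V // Q v = 0} // v ≠ ⟨0, map_zero Q⟩} =
    Nat.card {v : {v : V // Q v = 0} // ¬ v = ⟨0, map_zero Q⟩} := rfl
  rw [h3] at h2
  rw [h4]
  omega

/-- **The class of stabilisers of singular points is invariant.** -/
theorem hasInv_P [Finite F] [Finite V] (hG : Good Q) (hsurj : Function.Surjective (Psi Q)) {N : ℕ}
    (hN : Nat.card {v : V // Q v = 0} ≤ N * (Nat.card F - 1) + 1) : HasInv (P Q) N := by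
  let _ := act hG
  have := pretransitive hG
  have hfin : Finite (SP Q) := Subtype.finite
  refine HasInv.of_action (Ω := SP Q) (nontrivial_SP hG) ?_ ?_
  · have h1 := card_SP_mul_le (Q := Q)
    have h2 : 1 < Nat.card F := Finite.one_lt_card
    have h3 : Nat.card (SP Q) * (Nat.card F - 1) ≤ N * (Nat.card F - 1) := by omega
    exact Nat.le_of_mul_le_mul_right h3 (by omega)
  · intro α
    obtain ⟨M, rfl⟩ := hsurj α
    exact ⟨img M, img_injective M, fun s ω => img_smul hG M s ω⟩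

end Gen

variable {F : Type} [Field F] [Fintype F]

/-- `PΩ_{2m+1}(q)`. -/
theorem hasInv_odd {m : ℕ} (hm : 3 ≤ m) (hodd : Odd (Fintype.card F)) :
    HasInv (Cfsg.POmega F (Cfsg.quadFormOdd m F)) (∑ i ∈ Finset.range (2 * m), Fintype.card F ^ i) := by
  have h2 : (2 : F) ≠ 0 := Cfsg.Agent.LieClassical.PomegaCard.odd_card_iff.1 hodd
  have hG := good_odd (F := F) (m := m) (by omega) h2
  rw [← coe_oddForm]
  refine of_equiv (pomegaEquiv hG).symm (hasInv_P hG (Cfsg.Agent.AutOrth.Final.surjective_odd hm h2) ?_)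
  rw [coe_oddForm, Cfsg.Agent.S0291.result rfl hodd m, Nat.card_eq_fintype_card]
  obtain ⟨x, hx⟩ : ∃ x, Fintype.card F = x + 1 := ⟨_, (Nat.succ_pred_eq_of_pos Fintype.card_pos).symm⟩
  rw [hx, Nat.add_sub_cancel, geom_sum_mul_add]

/-- `PΩ⁺_{2m}(q)`, `m ≥ 5`. -/
theorem hasInv_plus {m : ℕ} (hm : 5 ≤ m) :
    HasInv (Cfsg.POmega F (Cfsg.quadFormPlus m F))
      ((∑ i ∈ Finset.range m, Fintype.card F ^ i) * (Fintype.card F ^ (m - 1) + 1)) := by
  have hG := good_plus (F := F) (m := m) (by omega)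
  rw [← coe_plusForm]
  refine of_equiv (pomegaEquiv hG).symm (hasInv_P hG (Cfsg.Agent.AutOrth.Final.surjective_plus hm) ?_)
  rw [coe_plusForm, Cfsg.Agent.S0289.result rfl m (by omega), Nat.card_eq_fintype_card]
  obtain ⟨x, hx⟩ : ∃ x, Fintype.card F = x + 1 := ⟨_, (Nat.succ_pred_eq_of_pos Fintype.card_pos).symm⟩
  obtain ⟨k, rfl⟩ : ∃ k, m = k + 1 := ⟨m - 1, by omega⟩
  have h3 := geom_sum_mul_add x (k + 1)
  have e1 : 2 * (k + 1) - 1 = 2 * k + 1 := by omega
  rw [hx, e1, Nat.add_sub_cancel, Nat.add_sub_cancel]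
  refine Nat.sub_le_of_le_add (le_of_eq ?_)
  have e3 : (x + 1) ^ (2 * k + 1) = (x + 1) ^ (k + 1) * (x + 1) ^ k := by
    rw [← pow_add]; congr 1; omega
  rw [e3, ← h3]
  ring

/-- `PΩ⁻_{2m}(q)`, `m ≥ 4`. -/
theorem hasInv_minus {m : ℕ} (hm : 4 ≤ m) (a b : F)
    (hab : ∀ z₁ z₂ : F, z₁ ^ 2 + a * z₁ * z₂ + b * z₂ ^ 2 = 0 → z₁ = 0 ∧ z₂ = 0) :
    HasInv (Cfsg.POmega F (Cfsg.quadFormMinus (m - 1) F a b))
      ((Fintype.card F ^ m + 1) * ∑ i ∈ Finset.range (m - 1), Fintype.card F ^ i) := by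
  have hG := good_minus (F := F) (m := m - 1) (by omega) a b hab
  rw [← coe_minusForm]
  refine of_equiv (pomegaEquiv hG).symm
    (hasInv_P hG (Cfsg.Agent.AutOrth.Final.surjective_minus (by omega) hab) ?_)
  rw [coe_minusForm, Cfsg.Agent.S0290.result rfl m (by omega) a b hab, Nat.card_eq_fintype_card]
  obtain ⟨x, hx⟩ : ∃ x, Fintype.card F = x + 1 := ⟨_, (Nat.succ_pred_eq_of_pos Fintype.card_pos).symm⟩
  obtain ⟨k, rfl⟩ : ∃ k, m = k + 1 := ⟨m - 1, by omega⟩
  have h3 := geom_sum_mul_add x k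
  have e1 : 2 * (k + 1) - 1 = 2 * k + 1 := by omega
  rw [hx, e1, Nat.add_sub_cancel, Nat.add_sub_cancel]
  refine Nat.sub_le_of_le_add (le_of_eq ?_)
  have e3 : (x + 1) ^ (2 * k + 1) = (x + 1) ^ (k + 1) * (x + 1) ^ k := by
    rw [← pow_add]; congr 1; omega
  rw [e3]
  generalize (x + 1) ^ (k + 1) = A
  rw [← h3]
  ring

end Cfsg.Agent.H989.HasInvOrth
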